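import Groth.Agent.Lib.GRingComplete.Main
import Groth.Agent.Lib.CatCM.Basic
import Groth.Prelude.Def_EGA4b

/-!
# Complete local Noetherian rings are excellent
-/

set_option autoImplicit false
set_option linter.style.haveILetI false
universe u

open IsLocalRing

namespace GrothLib.GRingComplete

/-- A complete local domain is universally catenary. -/
theorem isUniversallyCatenary_completeDomain (B : Type u) [CommRing B] [IsDomain B] [IsLocalRing B]
    [IsNoetherianRing B] [IsAdicComplete (maximalIdeal B) B] : CAlg.IsUniversallyCatenary B := by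
  rcases complete_domain_cases B with ⟨p, -, k, _, -, d, φ, hfin, -⟩ | ⟨R, _, hR1, hR2, -, φ, hfin, -⟩
  · letI := φ.toAlgebra
    haveI : Module.Finite (MvPowerSeries (Fin d) k) B := hfin
    haveI : IsRegularRing (MvPowerSeries (Fin d) k) := GrothLib.Serre.isRegularRing_of_isRegularLocalRing _
    exact GrothLib.CatBasics.isUniversallyCatenary_of_finiteType
      (GrothLib.CatCM.isUniversallyCatenary_of_isRegularRing (MvPowerSeries (Fin d) k))
  · haveI := hR2
    letI := φ.toAlgebra
    haveI : Module.Finite R B := hfin
    haveI : IsRegularRing R := GrothLib.Serre.isRegularRing_of_isRegularLocalRing R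
    exact GrothLib.CatBasics.isUniversallyCatenary_of_finiteType
      (GrothLib.CatCM.isUniversallyCatenary_of_isRegularRing R)

/-- A complete local Noetherian ring is universally catenary. -/
theorem isUniversallyCatenary_of_isAdicComplete (A : Type u) [CommRing A] [IsLocalRing A] [IsNoetherianRing A]
    [IsAdicComplete (maximalIdeal A) A] : CAlg.IsUniversallyCatenary A := by
  refine ⟨inferInstance, fun S _ _ hS => ?_⟩
  refine GrothLib.CatBasics.isCatenary_iff_forall_quotient_minimalPrimes.2 fun P hP => ?_
  haveI : P.IsPrime := hP.1.1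
  let q := P.comap (algebraMap A S)
  let B := A ⧸ q
  haveI : IsLocalRing B := IsLocalRing.of_surjective' (Ideal.Quotient.mk q) Ideal.Quotient.mk_surjective
  haveI : IsAdicComplete (maximalIdeal B) B := GrothLib.AdicExtra.isAdicComplete_localRing (R := A) (S := B)
  haveI : Algebra.FiniteType A (S ⧸ P) := Algebra.FiniteType.of_surjective (Ideal.Quotient.mkₐ A P)
    Ideal.Quotient.mk_surjective
  haveI : IsScalarTower A B (S ⧸ P) := IsScalarTower.of_algebraMap_eq fun _ => rfl
  exact (isUniversallyCatenary_completeDomain B).2 (S ⧸ P) (Algebra.FiniteType.of_restrictScalars_finiteType A B (S ⧸ P))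

/-- A complete local Noetherian ring is excellent. -/
theorem isExcellent_of_isAdicComplete (A : Type u) [CommRing A] [IsLocalRing A] [IsNoetherianRing A]
    [IsAdicComplete (maximalIdeal A) A] : EGA4.IsExcellent A :=
  ⟨inferInstance, isUniversallyCatenary_of_isAdicComplete A, isGRing_of_isAdicComplete A,
    GrothLib.J2.isJ2_of_finiteJ0 (GrothLib.J2.finiteJ0_of_isAdicComplete A)⟩

end GrothLib.GRingComplete
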