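import Groth.Agent.Lib.J2.Step
import Mathlib.RingTheory.RegularLocalRing.Polynomial

/-!
# Regularity of a radicial extension detected by a derivation
-/

set_option autoImplicit false
set_option linter.style.haveILetI false
universe u

open IsLocalRing Polynomial

namespace GrothLib.GRingComplete

/-- Adjoining a `p`-th root of `a` to a regular localisation, with a derivation making `a` a unit. -/
theorem isRegularRing_adjoinRoot {C T : Type u} [CommRing C] [CommRing T] [Algebra C T] (M : Submonoid C)
    [IsLocalization M T] [IsRegularRing T] (Δ : Derivation ℤ C C) (a : C) (p : ℕ) (hp : p ≠ 0)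
    (ha : IsUnit (algebraMap C T (Δ a))) :
    IsRegularRing (AdjoinRoot ((X : T[X]) ^ p - Polynomial.C (algebraMap C T a))) := by
  letI : Differential C := ⟨Δ⟩
  set g : T[X] := X ^ p - Polynomial.C (algebraMap C T a)
  let I := Ideal.span {g}
  show IsRegularRing (T[X] ⧸ I)
  rw [isRegularRing_iff]
  intro P _
  let Q := P.comap (Ideal.Quotient.mk I)
  have hIQ : I ≤ Q := fun z hz => by
    rw [Ideal.mem_comap, Ideal.Quotient.eq_zero_iff_mem.2 hz]
    exact P.zero_mem
  have hQm : Q.map (Ideal.Quotient.mk I) = P := Ideal.map_comap_of_surjective _ Ideal.Quotient.mk_surjective _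
  haveI : (Q.map (Ideal.Quotient.mk I)).IsPrime := hQm ▸ inferInstance
  letI : Algebra C[X] T[X] := (mapRingHom (algebraMap C T)).toAlgebra
  haveI := Polynomial.isLocalization M T
  have hT : IsRegularLocalRing (Localization.AtPrime Q) := inferInstance
  let Q' := Q.comap (algebraMap C[X] T[X])
  let g' : C[X] := X ^ p - Polynomial.C a
  have hg : algebraMap C[X] T[X] g' = g := by
    show (g'.map (algebraMap C T)) = g
    simp [g', g]
  have hΔ : ∀ Δ' : Derivation ℤ C[X] C[X], Δ' g' = - Polynomial.C (Δ a) → Δ' g' ∉ Q' := by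
    intro Δ' h1 h
    rw [h1, neg_mem_iff] at h
    have h2 : Polynomial.C (algebraMap C T (Δ a)) ∈ Q := by
      have : algebraMap C[X] T[X] (Polynomial.C (Δ a)) ∈ Q := h
      rwa [show algebraMap C[X] T[X] (Polynomial.C (Δ a)) = Polynomial.C (algebraMap C T (Δ a)) from
        Polynomial.map_C _] at this
    exact (Ideal.IsPrime.ne_top (inferInstance : Q.IsPrime)) (Ideal.eq_top_of_isUnit_mem _ h2 (ha.map Polynomial.C))
  let Δ' : Derivation ℤ C[X] C[X] := Derivation.mk'
    ((Differential.mapCoeffs (A := C)).toLinearMap.toAddMonoidHom.toIntLinearMap)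
    fun x y => (Differential.mapCoeffs (A := C)).leibniz x y
  have h1 : Δ' g' = - Polynomial.C (Δ a) := by
    show (Differential.mapCoeffs (A := C)) g' = _
    rw [map_sub, Derivation.leibniz_pow, Differential.mapCoeffs_X, smul_zero, smul_zero,
      Differential.mapCoeffs_C, zero_sub]
    rfl
  have hsq := GrothLib.J2.notMem_sq_maximalIdeal Δ' Q' (hΔ Δ' h1)
  -- transport to the localisation of `T[X]`
  haveI := IsLocalization.isLocalization_isLocalization_atPrime_isLocalization
    (Submonoid.map Polynomial.C M) (Localization.AtPrime Q) Q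
  let e : Localization.AtPrime Q' ≃ₐ[C[X]] Localization.AtPrime Q :=
    IsLocalization.algEquiv Q'.primeCompl _ _
  have he : algebraMap T[X] (Localization.AtPrime Q) g = e (algebraMap C[X] (Localization.AtPrime Q') g') := by
    rw [AlgEquiv.commutes, IsScalarTower.algebraMap_apply C[X] T[X] (Localization.AtPrime Q), hg]
  have hgQ : algebraMap T[X] (Localization.AtPrime Q) g ∈ maximalIdeal (Localization.AtPrime Q) := by
    rw [← Localization.AtPrime.map_eq_maximalIdeal]
    exact Ideal.mem_map_of_mem _ (hIQ (Ideal.mem_span_singleton_self g))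
  have hg2 : algebraMap T[X] (Localization.AtPrime Q) g ∉ maximalIdeal (Localization.AtPrime Q) ^ 2 := by
    intro h
    refine hsq ?_
    have hmap : (maximalIdeal (Localization.AtPrime Q') ^ 2).map e.toRingEquiv.toRingHom =
        maximalIdeal (Localization.AtPrime Q) ^ 2 := by
      rw [Ideal.map_pow]
      congr 1
      exact IsLocalRing.eq_maximalIdeal (Ideal.IsMaximal.map_of_surjective_of_ker_le (f := e.toRingEquiv.toRingHom)
        e.surjective (by rw [(RingHom.injective_iff_ker_eq_bot e.toRingEquiv.toRingHom).1 e.injective]; exact bot_le))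
    rw [he, ← hmap] at h
    obtain ⟨z, hz, hze⟩ := (Ideal.mem_map_iff_of_surjective _ e.surjective).1 h
    rw [show z = algebraMap C[X] (Localization.AtPrime Q') g' from e.injective hze] at hz
    exact hz
  obtain ⟨hq, -, -⟩ := GrothLib.RegLoc.quotient_isRegularLocalRing hgQ hg2
  obtain ⟨eq⟩ := GrothLib.J2.exists_quotient_equiv I Q hIQ
  have hreg' : IsRegularLocalRing (Localization.AtPrime Q ⧸ I.map (algebraMap T[X] (Localization.AtPrime Q))) := by
    rw [Ideal.map_span, Set.image_singleton]; assumption
  exact GrothLib.J2.isRegularLocalRing_congr hQm (IsRegularLocalRing.of_ringEquiv eq)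

end GrothLib.GRingComplete
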