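import Groth.Agent.Lib.GRingComplete.Derivation
import Groth.Agent.Lib.GRingComplete.Step
import Groth.Agent.Lib.GeomReg.Insep
import Groth.Agent.Lib.J2.Tower

/-!
# Regularity of formal fibres of a regular domain after finite field extensions
-/

set_option autoImplicit false
set_option linter.style.haveILetI false
universe u

open IsLocalRing Polynomial TensorProduct

namespace GrothLib.GRingComplete

/-- The generic fibre of a regular ring over a domain is regular. -/
theorem isRegularRing_fractions_tensor (R K C : Type u) [CommRing R] [IsDomain R] [Field K] [Algebra R K]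
    [IsFractionRing R K] [CommRing C] [Algebra R C] [IsRegularRing C] : IsRegularRing (K ⊗[R] C) := by
  letI : Algebra C (K ⊗[R] C) := Algebra.TensorProduct.rightAlgebra
  exact GrothLib.GeomReg.isRegularRing_of_isLocalization (Algebra.algebraMapSubmonoid C (nonZeroDivisors R)) _

/-- The separable case. -/
theorem isRegularRing_tensor_of_isSeparable (R K L C : Type u) [CommRing R] [IsDomain R] [Field K]
    [Algebra R K] [IsFractionRing R K] [Field L] [Algebra K L] [Algebra R L] [IsScalarTower R K L]
    [FiniteDimensional K L] [Algebra.IsSeparable K L] [CommRing C] [Algebra R C] [IsRegularRing C] :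
    IsRegularRing (L ⊗[R] C) := by
  haveI := isRegularRing_fractions_tensor R K C
  haveI : Algebra.FormallyEtale K L := Algebra.FormallyEtale.of_isSeparable K L
  haveI : IsRegularRing (L ⊗[K] (K ⊗[R] C)) := GrothLib.GeomReg.isRegularRing_tensor_of_formallySmooth K L _
  exact IsRegularRing.of_ringEquiv (R := L ⊗[K] (K ⊗[R] C))
    (Algebra.TensorProduct.cancelBaseChange R K L L C).toRingEquiv

/-- Adjoining a `p`-th root detected by a derivation. -/
theorem isRegularRing_tensor_step' {S E E' C : Type u} [CommRing S] [Field E] [Algebra S E]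
    [IsFractionRing S E] [Field E'] [Algebra E E'] [Algebra S E'] [IsScalarTower S E E'] [CommRing C]
    [Algebra S C] (p : ℕ) (hp : p ≠ 0) (a : S) (D : Derivation ℤ S S) (hD : D a ≠ 0)
    (Δ : Derivation ℤ C C) (hΔ : Δ (algebraMap S C a) = algebraMap S C (D a))
    (e : AdjoinRoot ((X : E[X]) ^ p - Polynomial.C (algebraMap S E a)) ≃ₐ[E] E')
    [IsRegularRing (E ⊗[S] C)] : IsRegularRing (E' ⊗[S] C) := by
  haveI : IsDomain S := Function.Injective.isDomain (algebraMap S E) (IsFractionRing.injective S E)
  let eT : C ⊗[S] E ≃+* E ⊗[S] C := (Algebra.TensorProduct.comm S C E).toRingEquiv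
  haveI : IsRegularRing (C ⊗[S] E) := IsRegularRing.of_ringEquiv (R := E ⊗[S] C) eT.symm
  have hreg := isRegularRing_adjoinRoot (T := C ⊗[S] E) (Algebra.algebraMapSubmonoid C (nonZeroDivisors S)) Δ
    (algebraMap S C a) p hp (hΔ.symm ▸ IsLocalization.map_units (C ⊗[S] E)
      (⟨algebraMap S C (D a), Algebra.mem_algebraMapSubmonoid_of_mem
        (⟨D a, mem_nonZeroDivisors_of_ne_zero hD⟩ : nonZeroDivisors S)⟩ :
        Algebra.algebraMapSubmonoid C (nonZeroDivisors S)))
  let gB : (E ⊗[S] C)[X] := X ^ p - Polynomial.C (algebraMap E (E ⊗[S] C) (algebraMap S E a))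
  have h1 : IsRegularRing (AdjoinRoot gB) := by
    refine IsRegularRing.of_ringEquiv (R := AdjoinRoot
      ((X : (C ⊗[S] E)[X]) ^ p - Polynomial.C (algebraMap C (C ⊗[S] E) (algebraMap S C a))))
      (AdjoinRoot.mapRingEquiv eT _ _ (Associated.of_eq ?_))
    simp only [gB, Polynomial.map_sub, Polynomial.map_pow, map_X, map_C]
    congr 2
    show eT (algebraMap C (C ⊗[S] E) (algebraMap S C a)) = algebraMap E (E ⊗[S] C) (algebraMap S E a)
    rw [← IsScalarTower.algebraMap_apply S C (C ⊗[S] E), ← IsScalarTower.algebraMap_apply S E (E ⊗[S] C)]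
    exact (Algebra.TensorProduct.comm S C E).commutes a
  let eB : (E ⊗[S] C) ⊗[E] E ≃+* E ⊗[S] C := (Algebra.TensorProduct.rid E (E ⊗[S] C) (E ⊗[S] C)).toRingEquiv
  let gE : E[X] := X ^ p - Polynomial.C (algebraMap S E a)
  have e2 : (E ⊗[S] C) ⊗[E] AdjoinRoot gE ≃+* AdjoinRoot gB :=
    (AdjoinRoot.tensorAlgEquiv (R := E) (T := E ⊗[S] C) gE _ rfl).toRingEquiv.trans
      (AdjoinRoot.mapRingEquiv eB _ _ (Associated.of_eq (by
        simp only [gB, gE, Polynomial.map_sub, Polynomial.map_pow, map_X, map_C]
        congr 2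
        show (Algebra.TensorProduct.rid E (E ⊗[S] C) (E ⊗[S] C))
          ((Algebra.TensorProduct.includeRight : E →ₐ[E] (E ⊗[S] C) ⊗[E] E) (algebraMap S E a)) = _
        rw [Algebra.TensorProduct.includeRight_apply, Algebra.TensorProduct.rid_tmul, Algebra.smul_def, mul_one])))
  have e3 : E' ⊗[S] C ≃+* (E ⊗[S] C) ⊗[E] AdjoinRoot gE :=
    (Algebra.TensorProduct.cancelBaseChange S E E' E' C).symm.toRingEquiv.trans
      ((Algebra.TensorProduct.comm E E' (E ⊗[S] C)).toRingEquiv.trans
        (Algebra.TensorProduct.congr (AlgEquiv.refl (R := E) (A₁ := E ⊗[S] C)) e.symm).toRingEquiv)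
  exact IsRegularRing.of_ringEquiv (R := AdjoinRoot gB) (e3.trans e2).symm

/-- Adjoining a `p`-th root over a completion. -/
theorem isRegularRing_tensor_step {R S E E' : Type u} [CommRing R] [IsNoetherianRing R] [CommRing S]
    [Algebra R S] [Module.Finite R S] [Field E] [Algebra R E] [Algebra S E] [IsScalarTower R S E]
    [IsFractionRing S E] [Field E'] [Algebra E E'] [Algebra R E'] [IsScalarTower R E E']
    (r : Ideal R) [r.IsPrime] (p : ℕ) (hp : p ≠ 0) (a : S) (D : Derivation ℤ S S) (hD : D a ≠ 0)
    (e : AdjoinRoot ((X : E[X]) ^ p - Polynomial.C (algebraMap S E a)) ≃ₐ[E] E')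
    [IsRegularRing (E ⊗[R] AdicCompletion (maximalIdeal (Localization.AtPrime r)) (Localization.AtPrime r))] :
    IsRegularRing (E' ⊗[R] AdicCompletion (maximalIdeal (Localization.AtPrime r)) (Localization.AtPrime r)) := by
  obtain ⟨Δ, hΔ⟩ := exists_derivation_lift r D
  letI : Algebra S E' := ((algebraMap E E').comp (algebraMap S E)).toAlgebra
  haveI : IsScalarTower S E E' := IsScalarTower.of_algebraMap_eq fun _ => rfl
  haveI : IsScalarTower R S E' := IsScalarTower.of_algebraMap_eq fun x => by
    show algebraMap R E' x = algebraMap E E' (algebraMap S E (algebraMap R S x))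
    rw [← IsScalarTower.algebraMap_apply R S E, ← IsScalarTower.algebraMap_apply]
  haveI : IsRegularRing (E ⊗[S] (S ⊗[R] AdicCompletion (maximalIdeal (Localization.AtPrime r)) (Localization.AtPrime r))) :=
    IsRegularRing.of_ringEquiv (R := E ⊗[R] AdicCompletion (maximalIdeal (Localization.AtPrime r)) (Localization.AtPrime r))
      (Algebra.TensorProduct.cancelBaseChange R S E E _).symm.toRingEquiv
  have := isRegularRing_tensor_step'
    (C := S ⊗[R] AdicCompletion (maximalIdeal (Localization.AtPrime r)) (Localization.AtPrime r)) p hp a D hD Δ (hΔ a) e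
  exact IsRegularRing.of_ringEquiv
    (R := E' ⊗[S] (S ⊗[R] AdicCompletion (maximalIdeal (Localization.AtPrime r)) (Localization.AtPrime r)))
    (Algebra.TensorProduct.cancelBaseChange R S E' E' _).toRingEquiv

open GrothLib.J2

/-- A finite model of an intermediate field. -/
theorem exists_model {R K L : Type u} [CommRing R] [IsDomain R] [IsNoetherianRing R] [Field K] [Algebra R K] [IsFractionRing R K]
    [Field L] [Algebra K L] [Algebra R L] [IsScalarTower R K L] [FiniteDimensional K L]
    (E : IntermediateField K L) :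
    ∃ S : Subalgebra R L, Module.Finite R S ∧ fracField (K := K) S = E := by
  classical
  let v := Module.finBasis K E
  obtain ⟨y, hy, hint⟩ := exists_integral_multiples R K (L := L) (Finset.univ.image fun i => (v i : L))
  let T : Finset L := Finset.univ.image fun i => y • (v i : L)
  let S : Subalgebra R L := Algebra.adjoin R (T : Set L)
  haveI hfinS : Module.Finite R S := Algebra.finite_adjoin_of_finite_of_isIntegral T.finite_toSet fun x hx => by
    obtain ⟨i, -, rfl⟩ := Finset.mem_image.1 hx
    exact hint _ (Finset.mem_image_of_mem _ (Finset.mem_univ i))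
  have hSE : ∀ x ∈ S, x ∈ E := fun x hx => by
    refine (Algebra.adjoin_le ?_ : S ≤ E.toSubalgebra.restrictScalars R) hx
    intro z hz
    obtain ⟨i, -, rfl⟩ := Finset.mem_image.1 hz
    show y • (v i : L) ∈ E
    rw [Algebra.smul_def, IsScalarTower.algebraMap_apply R K L]
    exact mul_mem (E.algebraMap_mem _) (v i).2
  have hy' : algebraMap R L y ≠ 0 := by
    rw [IsScalarTower.algebraMap_apply R K L]
    exact fun e => hy (IsFractionRing.injective R K (((algebraMap K L).injective
      (e.trans (map_zero _).symm)).trans (map_zero _).symm))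
  refine ⟨S, hfinS, le_antisymm (fun x hx => ?_) fun x hx => ?_⟩
  · obtain ⟨a, ha, b, hb, rfl⟩ := exists_div_of_mem_fracField S hx
    exact div_mem (hSE a ha) (hSE b hb)
  · have hxs : ((∑ i, v.repr ⟨x, hx⟩ i • v i : E) : L) = x := congrArg Subtype.val (v.sum_repr ⟨x, hx⟩)
    rw [← hxs, AddSubmonoidClass.coe_finsetSum]
    refine sum_mem fun i _ => ?_
    show ((v.repr ⟨x, hx⟩ i) • (v i : L)) ∈ _
    rw [Algebra.smul_def]
    refine mul_mem ((fracField (K := K) S).algebraMap_mem _) ?_
    have h2 : (v i : L) = (y • (v i : L)) / algebraMap R L y := by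
      rw [Algebra.smul_def, mul_div_cancel_left₀ _ hy']
    rw [h2]
    exact div_mem (subset_fracField S (Algebra.subset_adjoin (Finset.mem_image_of_mem _ (Finset.mem_univ i))))
      (subset_fracField S (S.algebraMap_mem y))

/-- A domain in which derivations detect non-`p`-th powers of finite extensions. -/
def DetectsPowers (R K : Type u) [CommRing R] [IsDomain R] [IsNoetherianRing R] [Field K] [Algebra R K] [IsFractionRing R K] (p : ℕ) :
    Prop :=
  ∀ (L : Type u) [Field L] [Algebra K L] [Algebra R L] [IsScalarTower R K L], FiniteDimensional K L →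
    ∀ (S : Subalgebra R L), Module.Finite R S → ∀ a : S,
      (∀ b ∈ fracField (K := K) S, b ^ p ≠ (a : L)) → ∃ D : Derivation ℤ S S, D a ≠ 0

set_option maxHeartbeats 800000 in
/-- The purely inseparable case. -/
theorem isRegularRing_tensor_insep {R K L : Type u} [CommRing R] [IsDomain R] [IsNoetherianRing R]
    [Field K] [Algebra R K] [IsFractionRing R K] [Field L] [Algebra K L] [Algebra R L] [IsScalarTower R K L]
    [FiniteDimensional K L] [IsPurelyInseparable K L] (p : ℕ) [hp : Fact p.Prime] [CharP K p]
    (hder : DetectsPowers R K p) (r : Ideal R) [r.IsPrime]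
    [IsRegularRing (AdicCompletion (maximalIdeal (Localization.AtPrime r)) (Localization.AtPrime r))] :
    IsRegularRing (L ⊗[R] AdicCompletion (maximalIdeal (Localization.AtPrime r)) (Localization.AtPrime r)) := by
  let Q := AdicCompletion (maximalIdeal (Localization.AtPrime r)) (Localization.AtPrime r)
  haveI : ExpChar K p := ExpChar.prime hp.out
  haveI : CharP L p := charP_of_injective_ringHom (algebraMap K L).injective p
  haveI : ExpChar L p := ExpChar.prime hp.out
  let Good : Set (IntermediateField K L) := {E | IsRegularRing (E ⊗[R] Q)}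
  have hbot : (⊥ : IntermediateField K L) ∈ Good := by
    haveI := isRegularRing_fractions_tensor R K Q
    exact IsRegularRing.of_ringEquiv (R := K ⊗[R] Q)
      (Algebra.TensorProduct.congr ((IntermediateField.botEquiv K L).symm.restrictScalars R)
        (AlgEquiv.refl (R := R) (A₁ := Q))).toRingEquiv
  haveI : WellFoundedGT (IntermediateField K L) :=
    StrictMono.wellFoundedGT (f := fun F : IntermediateField K L => Subalgebra.toSubmodule F.toSubalgebra)
      fun a b h => show Subalgebra.toSubmodule a.toSubalgebra < Subalgebra.toSubmodule b.toSubalgebra from h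
  obtain ⟨E, hE, hmax⟩ := wellFounded_gt.has_min Good ⟨⊥, hbot⟩
  have hE' : IsRegularRing (E ⊗[R] Q) := hE
  by_cases htop : E = ⊤
  · subst htop
    exact IsRegularRing.of_ringEquiv (R := (⊤ : IntermediateField K L) ⊗[R] Q)
      (Algebra.TensorProduct.congr (IntermediateField.topEquiv.restrictScalars R)
        (AlgEquiv.refl (R := R) (A₁ := Q))).toRingEquiv
  exfalso
  obtain ⟨z, hz⟩ : ∃ z : L, z ∉ E := by
    by_contra hcon
    push Not at hcon
    exact htop (eq_top_iff.2 fun x _ => hcon x)
  have hex : ∃ n, z ^ p ^ n ∈ E := by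
    obtain ⟨n, w, hw⟩ := IsPurelyInseparable.pow_mem K p z
    exact ⟨n, hw ▸ E.algebraMap_mem w⟩
  classical
  have hn0 : Nat.find hex ≠ 0 := fun h => hz (by simpa [h] using Nat.find_spec hex)
  obtain ⟨n, hn⟩ := Nat.exists_eq_succ_of_ne_zero hn0
  set x := z ^ p ^ n
  have hx : x ∉ E := Nat.find_min hex (by omega)
  have hxp : x ^ p ∈ E := by
    rw [← pow_mul, ← pow_succ, ← Nat.succ_eq_add_one, ← hn]
    exact Nat.find_spec hex
  obtain ⟨S, hSfin, hSE⟩ := exists_model (R := R) E
  subst hSE
  obtain ⟨c, hc, d, hd, hcd⟩ := exists_div_of_mem_fracField S hxp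
  set E := fracField (K := K) S
  have hd0 : d ≠ 0 := by
    rintro rfl
    rw [div_zero, eq_comm, pow_eq_zero_iff hp.out.ne_zero] at hcd
    exact hx (hcd ▸ zero_mem _)
  let y := x * d
  have hyE : y ∉ E := fun h => hx (by simpa [y, hd0] using div_mem h (subset_fracField (K := K) S hd))
  obtain ⟨q, hq⟩ : ∃ q, p = q + 1 := ⟨p - 1, (Nat.sub_add_cancel hp.out.one_le).symm⟩
  let a : S := ⟨c * d ^ q, mul_mem hc (pow_mem hd q)⟩
  have hya : y ^ p = (a : L) := by
    show (x * d) ^ p = c * d ^ q
    rw [mul_pow, ← hcd, hq, pow_succ']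
    field_simp
  have hno : ∀ b ∈ E, b ^ p ≠ (a : L) := by
    intro b hb h
    exact hyE (frobenius_inj L p (show frobenius L p b = frobenius L p y from h.trans hya.symm) ▸ hb)
  obtain ⟨D, hD⟩ := hder L ‹_› S hSfin a hno
  letI : Algebra S E := (toFracField (K := K) S).toAlgebra
  haveI := isFractionRing_fracField (K := K) S
  haveI : IsScalarTower R S E := IsScalarTower.of_algebraMap_eq fun _ => Subtype.ext rfl
  haveI := hSfin
  let aE : E := algebraMap S E a
  have hirr : Irreducible ((X : E[X]) ^ p - C aE) :=
    X_pow_sub_C_irreducible_of_prime hp.out fun b hb => hno b b.2 (congrArg Subtype.val hb :)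
  have hmin : (X : E[X]) ^ p - C aE = minpoly E y :=
    minpoly.eq_of_irreducible_of_monic hirr (by
      rw [map_sub, map_pow, aeval_X, aeval_C, hya]; exact sub_self _) (monic_X_pow_sub_C _ hp.out.ne_zero)
  haveI : IsScalarTower R E L := IsScalarTower.of_algebraMap_eq fun _ => rfl
  let E' := IntermediateField.adjoin E {y}
  have hint : IsIntegral E y := (Algebra.IsIntegral.isIntegral (R := K) y).tower_top
  let e : AdjoinRoot ((X : E[X]) ^ p - C (algebraMap S E a)) ≃ₐ[E] E' :=
    (AdjoinRoot.mapAlgEquiv (AlgEquiv.refl : E ≃ₐ[E] E) _ _ (Associated.of_eq (by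
      rw [← hmin]; simp [aE]))).trans (IntermediateField.adjoinRootEquivAdjoin E hint)
  haveI : IsRegularRing (E' ⊗[R] Q) := isRegularRing_tensor_step r p hp.out.ne_zero a D hD e
  refine hmax (E'.restrictScalars K) ‹IsRegularRing (E' ⊗[R] Q)› (lt_of_le_of_ne ?_ fun he => hyE ?_)
  · intro w hw
    exact E'.algebraMap_mem ⟨w, hw⟩
  · rw [he]
    exact IntermediateField.mem_adjoin_simple_self E y

/-- Regularity of formal fibres after any finite extension of the fraction field. -/
theorem isRegularRing_tensor_of_detects {R K : Type u} [CommRing R] [IsDomain R] [IsNoetherianRing R]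
    [Field K] [Algebra R K] [IsFractionRing R K] (p : ℕ) [Fact p.Prime] [CharP K p]
    (hder : DetectsPowers R K p) (r : Ideal R) [r.IsPrime]
    [IsRegularRing (AdicCompletion (maximalIdeal (Localization.AtPrime r)) (Localization.AtPrime r))]
    (L : Type u) [Field L] [Algebra K L] [Algebra R L] [IsScalarTower R K L] [FiniteDimensional K L] :
    IsRegularRing (L ⊗[R] AdicCompletion (maximalIdeal (Localization.AtPrime r)) (Localization.AtPrime r)) := by
  let Q := AdicCompletion (maximalIdeal (Localization.AtPrime r)) (Localization.AtPrime r)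
  haveI := isRegularRing_fractions_tensor R K Q
  haveI : IsNoetherianRing (K ⊗[R] Q) := inferInstance
  haveI := GrothLib.GeomReg.isRegularRing_tensor_of_purelyInseparable (k := K) (S := K ⊗[R] Q)
    (fun k' _ _ hfin hins => by
      letI : Algebra R k' := ((algebraMap K k').comp (algebraMap R K)).toAlgebra
      haveI : IsScalarTower R K k' := IsScalarTower.of_algebraMap_eq fun _ => rfl
      haveI := hfin
      haveI := hins
      haveI := isRegularRing_tensor_insep (L := k') p hder r
      exact IsRegularRing.of_ringEquiv (R := k' ⊗[R] Q)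
        (Algebra.TensorProduct.cancelBaseChange R K k' k' Q).symm.toRingEquiv) L
  exact IsRegularRing.of_ringEquiv (R := L ⊗[K] (K ⊗[R] Q))
    (Algebra.TensorProduct.cancelBaseChange R K L L Q).toRingEquiv

end GrothLib.GRingComplete
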