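import Groth.Agent.Lib.J2.Complete

/-!
# Normalisation of complete local domains by regular rings
-/

set_option autoImplicit false
set_option linter.style.haveILetI false
universe u

open IsLocalRing GrothLib.J2

namespace GrothLib.GRingComplete

/-- `D` is finite over power series over a field of characteristic `p` or over a regular local domain
of characteristic zero. -/
def NormalForms (D : Type u) [CommRing D] : Prop :=
  (∃ p : ℕ, p.Prime ∧ ∃ (k : Type u) (_ : Field k), CharP k p ∧
    ∃ (d : ℕ) (φ : MvPowerSeries (Fin d) k →+* D), φ.Finite ∧ Function.Injective φ) ∨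
  ∃ (R : Type u) (_ : CommRing R), IsDomain R ∧ IsRegularLocalRing R ∧ CharZero R ∧
    ∃ φ : R →+* D, φ.Finite ∧ Function.Injective φ

/-- The two kinds of Noether normalisations of a complete local domain. -/
theorem complete_domain_cases (D : Type u) [CommRing D] [IsDomain D] [IsLocalRing D] [IsNoetherianRing D]
    [IsAdicComplete (maximalIdeal D) D] : NormalForms D := by
  classical
  have hsop : ∀ (E : Type u) [CommRing E] [IsLocalRing E] [IsNoetherianRing E],
      ∃ s : Finset E, (↑s ⊆ (maximalIdeal E : Set E)) ∧
        maximalIdeal E ≤ (Ideal.span (s : Set E)).radical ∧ (s.card : WithBot ℕ∞) = ringKrullDim E := by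
    intro E _ _ _
    obtain ⟨s, hmin, hcard⟩ := Ideal.exists_finset_card_eq_height_of_isNoetherianRing (maximalIdeal E)
    refine ⟨s, fun x hx => hmin.1.2 (Ideal.subset_span hx), ?_, ?_⟩
    · rw [Ideal.radical_eq_sInf]
      refine le_sInf fun P hP => ?_
      exact hmin.2 ⟨hP.2, hP.1⟩ (le_maximalIdeal hP.2.ne_top)
    · rw [← IsLocalRing.maximalIdeal_height_eq_ringKrullDim, ← hcard]
      rfl
  have equal' : ∀ (k : Type u) [Field k] (σ : k →+* D), Function.Surjective ((residue D).comp σ) →
      NormalForms D := by
    intro k _ σ hσ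
    obtain ⟨S, hS, hrad, hcard⟩ := hsop D
    haveI : IsAdicComplete (maximalIdeal k) k := by
      rw [IsLocalRing.maximalIdeal_eq_bot]; infer_instance
    obtain ⟨φ, hfin, hinj⟩ := exists_finite_injective_of_parameters (Λ := k) σ hσ
      (∅ : Finset k) (by rw [IsLocalRing.maximalIdeal_eq_bot, Finset.coe_empty, Ideal.span_empty]) (fun i : Fin S.card => ((S.equivFin.symm i : S) : D))
      (fun i => hS (S.equivFin.symm i).2) (hrad.trans (Ideal.radical_mono (le_sup_of_le_right
        (Ideal.span_mono fun x hx => ⟨S.equivFin ⟨x, hx⟩, by simp⟩))))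
      (by simp only [Finset.card_empty, add_zero]; exact hcard.le)
    obtain ⟨q, hq⟩ := CharP.exists k
    rcases CharP.char_is_prime_or_zero k q with hp | rfl
    · exact Or.inl ⟨q, hp, k, inferInstance, hq, S.card, φ, hfin, hinj⟩
    · haveI : CharZero k := CharP.charP_to_charZero k
      haveI : CharZero (MvPowerSeries (Fin S.card) k) :=
        charZero_of_injective_ringHom (MvPowerSeries.C (σ := Fin S.card) (R := k)).injective
      exact Or.inr ⟨MvPowerSeries (Fin S.card) k, inferInstance, inferInstance, inferInstance,
        inferInstance, φ, hfin, hinj⟩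
  have equal : ∀ (s : ResidueField D →+* D), (residue D).comp s = RingHom.id _ → NormalForms D :=
    fun s hs => equal' (ResidueField D) s (by rw [hs]; exact Function.surjective_id)
  obtain ⟨q, hq⟩ := CharP.exists (ResidueField D)
  rcases CharP.char_is_prime_or_zero (ResidueField D) q with hp | rfl
  · by_cases hD : (q : D) = 0
    · haveI := Fact.mk hp
      haveI : CharP D q := (CharP.charP_iff_prime_eq_zero hp).2 hD
      letI : Algebra (GrothLib.SepField.PrimeFld.{u} q) D :=
        ((ZMod.castHom (dvd_refl q) D).comp ULift.ringEquiv.toRingHom).toAlgebra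
      obtain ⟨s, hs⟩ := GrothLib.CoeffField.exists_coefficientField (GrothLib.SepField.PrimeFld.{u} q) D
      exact equal s hs
    · obtain ⟨Λ, _, _, ⟨hd, hv, hc, p, hp', hm⟩, ⟨e⟩⟩ := GrothLib.Cohen.exists_cohenRing q hp (ResidueField D)
      have hqp : p = q := by
        have h1 : (p : ResidueField D) = 0 := by
          rw [← map_natCast e, ← map_natCast (residue Λ), (residue_eq_zero_iff _).2
            (hm ▸ Ideal.subset_span rfl), map_zero]
        exact ((Nat.prime_dvd_prime_iff_eq hp hp').1 ((CharP.cast_eq_zero_iff _ q p).1 h1)).symm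
      subst hqp
      have hqm : (p : D) ∈ maximalIdeal D := by rw [← residue_eq_zero_iff, map_natCast, CharP.cast_eq_zero]
      obtain ⟨g, hg⟩ := GrothLib.Cohen.exists_lift p hp' hm hqm e.toRingHom
      haveI := GrothLib.Cohen.charZero_of_maximalIdeal_eq_span Λ p hp' hm
      let J : Ideal D := Ideal.span {(p : D)}
      haveI : Nontrivial (D ⧸ J) := Ideal.Quotient.nontrivial_iff.2
        (ne_top_of_le_ne_top (maximalIdeal.isMaximal D).ne_top ((Ideal.span_singleton_le_iff_mem _).2 hqm))
      haveI : IsLocalRing (D ⧸ J) := IsLocalRing.of_surjective' (Ideal.Quotient.mk J) Ideal.Quotient.mk_surjective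
      obtain ⟨S, hS, hrad, hcard⟩ := hsop (D ⧸ J)
      let b : Fin S.card → D := fun i => (Ideal.Quotient.mk_surjective ((S.equivFin.symm i : S) : D ⧸ J)).choose
      have hb : ∀ i, Ideal.Quotient.mk J (b i) = ((S.equivFin.symm i : S) : D ⧸ J) := fun i =>
        (Ideal.Quotient.mk_surjective ((S.equivFin.symm i : S) : D ⧸ J)).choose_spec
      haveI : IsLocalHom (Ideal.Quotient.mk J) :=
        IsLocalHom.of_surjective _ Ideal.Quotient.mk_surjective
      have hbm : ∀ i, b i ∈ maximalIdeal D := fun i => by
        rw [IsLocalRing.mem_maximalIdeal, mem_nonunits_iff]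
        intro hu
        have h2 := hS (S.equivFin.symm i).2
        rw [SetLike.mem_coe, IsLocalRing.mem_maximalIdeal, mem_nonunits_iff, ← hb] at h2
        exact h2 (hu.map _)
      obtain ⟨φ, hfin, hinj⟩ := exists_finite_injective_of_parameters (Λ := Λ) g
        (by rw [hg]; exact e.surjective.comp residue_surjective)
        {(p : Λ)} (by rw [hm, Finset.coe_singleton]) b hbm (by
          rw [hm, Ideal.map_span, Set.image_singleton, map_natCast]
          intro x hx
          obtain ⟨n, hn⟩ := hrad (show Ideal.Quotient.mk J x ∈ maximalIdeal (D ⧸ J) from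
            (IsLocalRing.mem_maximalIdeal _).2 fun hu => (IsLocalRing.mem_maximalIdeal _).1 hx
              (isUnit_of_map_unit (Ideal.Quotient.mk J) x hu))
          refine ⟨n, ?_⟩
          rw [← map_pow] at hn
          have h2 : Ideal.Quotient.mk J (x ^ n) ∈ (Ideal.span (Set.range b)).map (Ideal.Quotient.mk J) := by
            rw [Ideal.map_span]
            refine Ideal.span_mono (fun y hy => ?_) hn
            exact ⟨b (S.equivFin ⟨y, hy⟩), ⟨_, rfl⟩, by rw [hb]; simp⟩
          rw [← Ideal.mem_comap, Ideal.comap_map_of_surjective' _ Ideal.Quotient.mk_surjective, Ideal.mk_ker,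
            sup_comm] at h2
          exact h2) (by
          have h3 := ringKrullDim_quotient_succ_le_of_nonZeroDivisor (mem_nonZeroDivisors_of_ne_zero hD)
          rw [← hcard] at h3
          simpa using h3)
      exact Or.inr ⟨MvPowerSeries (Fin S.card) Λ, inferInstance, inferInstance,
        J2.isRegularLocalRing_powerSeries (p : Λ) (Nat.cast_ne_zero.2 hp'.ne_zero) hm S.card,
        charZero_of_injective_ringHom (f := MvPowerSeries.C (σ := Fin S.card) (R := Λ)) fun x y h => by
          simpa using congrArg MvPowerSeries.constantCoeff h, φ, hfin, hinj⟩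
  · haveI : CharZero (ResidueField D) := CharP.charP_to_charZero _
    obtain ⟨halg⟩ := GrothLib.CoeffField.nonempty_algebra_rat D
    obtain ⟨s, hs⟩ := GrothLib.CoeffField.exists_coefficientField (ULift.{u} ℚ) D
    exact equal s hs

end GrothLib.GRingComplete
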