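import Groth.Agent.Lib.GeomReg.FiniteGRing

/-!
# Completion of a local ring of a finite algebra
-/

set_option autoImplicit false
set_option linter.style.haveILetI false
universe u

open IsLocalRing TensorProduct

namespace GrothLib.GRingComplete

theorem exists_model_of_completeLocal {A D Q : Type u} [CommRing A] [CommRing D] [Algebra A D]
    [Module.Finite A D] [CommRing Q] [IsLocalRing Q] [IsNoetherianRing Q]
    [IsAdicComplete (maximalIdeal Q) Q] [Algebra A Q] [Module.Flat A Q] [IsNoetherianRing D] (q : Ideal D) [q.IsPrime]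
    (hmax : maximalIdeal Q = (q.comap (algebraMap A D)).map (algebraMap A Q))
    (hfrac : ∀ r : Q, ∃ s ∉ q.comap (algebraMap A D), ∃ a : A,
      algebraMap A Q s * r - algebraMap A Q a ∈ maximalIdeal Q)
    (ρ : Q →ₐ[A] q.ResidueField) (hρ : ∀ r ∈ maximalIdeal Q, ρ r = 0) :
    ∃ M : Ideal (D ⊗[A] Q), ∃ _ : M.IsMaximal, Nonempty (Localization.AtPrime M ≃ₐ[D]
      AdicCompletion (maximalIdeal (Localization.AtPrime q)) (Localization.AtPrime q)) := by
  let eF : (Q ⊗[A] D) ≃ₐ[A] D ⊗[A] Q := Algebra.TensorProduct.comm A Q D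
  letI : Algebra Q (D ⊗[A] Q) := Algebra.TensorProduct.rightAlgebra
  haveI : Module.Finite Q (D ⊗[A] Q) :=
    Module.Finite.equiv ({ eF with
      commutes' := fun r => by
        show eF (r ⊗ₜ 1) = algebraMap Q (D ⊗[A] Q) r
        rfl } : (Q ⊗[A] D) ≃ₐ[Q] D ⊗[A] Q).toLinearEquiv
  let Φ : D ⊗[A] Q →ₐ[A] q.ResidueField :=
    Algebra.TensorProduct.lift (IsScalarTower.toAlgHom A D q.ResidueField) ρ fun _ _ => Commute.all _ _
  let M := RingHom.ker Φ.toRingHom
  have hΦ : ∀ d r, Φ (d ⊗ₜ r) = algebraMap D q.ResidueField d * ρ r := fun _ _ => rfl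
  haveI : M.IsPrime := RingHom.ker_isPrime _
  have hMq : M.comap (algebraMap D (D ⊗[A] Q)) = q := by
    ext d
    show Φ (algebraMap D (D ⊗[A] Q) d) = 0 ↔ _
    rw [Algebra.TensorProduct.algebraMap_apply, Algebra.algebraMap_self, RingHom.id_apply, hΦ,
      map_one, mul_one]
    exact Ideal.algebraMap_residueField_eq_zero
  haveI : Algebra.IsIntegral Q (D ⊗[A] Q) := Algebra.IsIntegral.of_finite Q (D ⊗[A] Q)
  have hcomap : M.comap (algebraMap Q (D ⊗[A] Q)) = maximalIdeal Q := by
    refine ((maximalIdeal.isMaximal Q).eq_of_le (Ideal.IsPrime.ne_top inferInstance) ?_).symm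
    intro r hr
    show Φ ((1 : D) ⊗ₜ r) = 0
    rw [hΦ, hρ r hr, mul_zero]
  haveI hMmax : M.IsMaximal :=
    Ideal.isMaximal_of_isIntegral_of_isMaximal_comap (R := Q) M (hcomap ▸ maximalIdeal.isMaximal Q)
  refine ⟨M, hMmax, ?_⟩
  haveI : IsNoetherianRing (D ⊗[A] Q) := IsNoetherianRing.of_finite Q (D ⊗[A] Q)
  let T := Localization.AtPrime M
  let R := Localization.AtPrime q
  haveI : IsNoetherianRing T := IsLocalization.isNoetherianRing M.primeCompl _ inferInstance
  haveI hTc := ((GrothLib.AdicExtra.finite_algebra_pi_localizations Q (D ⊗[A] Q)).2.2 ⟨M, hMmax⟩).2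
  haveI : IsNoetherianRing R := IsLocalization.isNoetherianRing q.primeCompl _ inferInstance
  have hu : ∀ y : q.primeCompl, IsUnit (algebraMap D T y) := fun y => by
    rw [IsScalarTower.algebraMap_apply D (D ⊗[A] Q) T,
      IsLocalization.AtPrime.isUnit_to_map_iff _ M]
    exact fun hy => y.2 ((SetLike.ext_iff.mp hMq (y : D)).mp hy)
  letI : Algebra R T := (IsLocalization.lift (M := q.primeCompl) (S := R) hu).toAlgebra
  haveI : IsScalarTower D R T :=
    IsScalarTower.of_algebraMap_eq fun x => (IsLocalization.lift_eq hu x).symm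
  haveI : Module.Flat (D ⊗[A] Q) T := IsLocalization.flat T M.primeCompl
  haveI : Module.Flat D T := Module.Flat.trans D (D ⊗[A] Q) T
  haveI : Module.Flat R T := (Module.flat_iff_of_isLocalization R q.primeCompl T).2 ‹_›
  obtain ⟨hqT, hres⟩ := GrothLib.GeomReg.fibre_of_fractions (A := A) q M hMq
    (GrothLib.GeomReg.exists_frac_congr q hmax hfrac)
  haveI : IsLocalHom (algebraMap R T) := ((local_hom_TFAE _).out 0 2 rfl rfl).mpr hqT.le
  have hk : Function.Bijective (ResidueField.map (R := R) (S := T) (algebraMap R T)) := by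
    refine ⟨RingHom.injective _, fun x => ?_⟩
    obtain ⟨t, rfl⟩ := residue_surjective x
    obtain ⟨z, hz⟩ := hres t
    exact ⟨residue _ z, (ResidueField.map_residue _ z).trans (Ideal.Quotient.eq.mpr hz)⟩
  obtain ⟨ψ, hψ⟩ := GrothLib.GeomReg.exists_completion_map R T
  have hbij := GrothLib.AdicExtra.bijective_completion ψ hψ hqT hk
  let e : AdicCompletion (maximalIdeal R) R ≃+* T :=
    (RingEquiv.ofBijective ψ hbij).trans (AdicCompletion.ofAlgEquiv (maximalIdeal T)).symm.toRingEquiv
  have he : ∀ x : D, e (algebraMap D (AdicCompletion (maximalIdeal R) R) x) = algebraMap D T x := fun x => by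
    rw [IsScalarTower.algebraMap_apply D R (AdicCompletion (maximalIdeal R) R),
      IsScalarTower.algebraMap_apply D R T]
    show (AdicCompletion.ofAlgEquiv (maximalIdeal T)).symm (ψ _) = _
    rw [show ψ (algebraMap R _ (algebraMap D R x)) = algebraMap T _ (algebraMap R T (algebraMap D R x)) from
      RingHom.congr_fun hψ _, AdicCompletion.algebraMap_apply (maximalIdeal T)]
    exact AdicCompletion.ofAlgEquiv_symm_of (maximalIdeal T) _
  exact ⟨(AlgEquiv.ofRingEquiv (f := e) he).symm⟩

/-- The completion of a local ring of a finite algebra is a localisation of the base change to the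
completion of the base. -/
theorem exists_completion_model (A D : Type u) [CommRing A] [IsNoetherianRing A] [CommRing D] [Algebra A D]
    [Module.Finite A D] (p : Ideal A) [p.IsPrime] (q : Ideal D) [q.IsPrime] (hpq : q.comap (algebraMap A D) = p) :
    ∃ M : Ideal (D ⊗[A] AdicCompletion (maximalIdeal (Localization.AtPrime p)) (Localization.AtPrime p)),
      ∃ _ : M.IsMaximal, Nonempty (Localization.AtPrime M ≃ₐ[D]
        AdicCompletion (maximalIdeal (Localization.AtPrime q)) (Localization.AtPrime q)) := by
  haveI : IsNoetherianRing D := IsNoetherianRing.of_finite A D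
  haveI : IsNoetherianRing (Localization.AtPrime p) :=
    IsLocalization.isNoetherianRing p.primeCompl _ inferInstance
  let Q := AdicCompletion (maximalIdeal (Localization.AtPrime p)) (Localization.AtPrime p)
  letI : Algebra p.ResidueField q.ResidueField :=
    (Ideal.ResidueField.mapₐ p q (Algebra.ofId A D) hpq.symm).toRingHom.toAlgebra
  haveI : IsScalarTower A p.ResidueField q.ResidueField :=
    IsScalarTower.of_algebraMap_eq fun x =>
      ((Ideal.ResidueField.mapₐ p q (Algebra.ofId A D) hpq.symm).commutes x).symm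
  let ρ₀ : Localization.AtPrime p →ₐ[A] q.ResidueField :=
    (IsScalarTower.toAlgHom A p.ResidueField q.ResidueField).comp
      (IsScalarTower.toAlgHom A (Localization.AtPrime p) p.ResidueField)
  let ρ : Q →ₐ[A] q.ResidueField :=
    (Ideal.Quotient.liftₐ (maximalIdeal (Localization.AtPrime p)) ρ₀ fun a ha => by
      show algebraMap p.ResidueField q.ResidueField (residue (Localization.AtPrime p) a) = 0
      rw [(residue_eq_zero_iff a).mpr ha, map_zero]).comp
      ((AdicCompletion.evalOneₐ (maximalIdeal (Localization.AtPrime p))).restrictScalars A)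
  have hmax : maximalIdeal Q = p.map (algebraMap A Q) := calc
    maximalIdeal Q = (maximalIdeal (Localization.AtPrime p)).map (algebraMap _ Q) :=
      AdicCompletion.maximalIdeal_eq_map
    _ = (p.map (algebraMap A (Localization.AtPrime p))).map (algebraMap _ Q) :=
      congrArg (Ideal.map _) Localization.AtPrime.map_eq_maximalIdeal.symm
    _ = p.map (algebraMap A Q) := by rw [Ideal.map_map, ← IsScalarTower.algebraMap_eq]
  haveI : Module.Flat A Q := Module.Flat.trans A (Localization.AtPrime p) Q
  refine exists_model_of_completeLocal q (hpq.symm ▸ hmax) (fun r => ?_) ρ (fun r hr => ?_)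
  · rw [hpq]
    obtain ⟨y, hy⟩ :=
      (AdicCompletion.residueField_map_bijective (Localization.AtPrime p)).2 (residue Q r)
    obtain ⟨r₀, rfl⟩ := residue_surjective y
    obtain ⟨⟨a, s⟩, has⟩ := IsLocalization.surj p.primeCompl r₀
    refine ⟨s, s.2, a, ?_⟩
    have hr₀ : r - algebraMap _ Q r₀ ∈ maximalIdeal Q := by
      rw [← residue_eq_zero_iff, map_sub, ← hy, ResidueField.map_residue, sub_self]
    have h2 : algebraMap A Q a = algebraMap A Q (s : A) * algebraMap _ Q r₀ := by
      rw [IsScalarTower.algebraMap_apply A (Localization.AtPrime p) Q a,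
        IsScalarTower.algebraMap_apply A (Localization.AtPrime p) Q (s : A), ← map_mul,
        mul_comm (algebraMap A (Localization.AtPrime p) (s : A)), has]
    rw [h2, ← mul_sub]
    exact Ideal.mul_mem_left _ _ hr₀
  · rw [hmax] at hr
    refine (Ideal.map_le_iff_le_comap.mpr fun a ha => ?_ :
      p.map (algebraMap A Q) ≤ RingHom.ker ρ.toRingHom) hr
    show ρ (algebraMap A Q a) = 0
    rw [ρ.commutes, IsScalarTower.algebraMap_apply A D q.ResidueField]
    refine Ideal.algebraMap_residueField_eq_zero.mpr ?_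
    rw [← hpq] at ha
    exact ha

end GrothLib.GRingComplete
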