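import Groth.Agent.Lib.GRingComplete.Tower
import Groth.Agent.Lib.GRingComplete.Model
import Groth.Agent.Lib.GRingComplete.Cases
import Groth.Agent.Lib.GeomReg.Local

/-!
# Complete local Noetherian rings are G-rings
-/

set_option autoImplicit false
set_option linter.style.haveILetI false
universe u

open IsLocalRing TensorProduct

namespace GrothLib.GRingComplete

/-- Regularity of `L ⊗ C_r` for all finite extensions of the fraction field. -/
def GoodBase (R : Type u) [CommRing R] [IsDomain R] : Prop :=
  ∀ (r : Ideal R) [r.IsPrime] (L : Type u) [Field L] [Algebra (FractionRing R) L] [Algebra R L]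
    [IsScalarTower R (FractionRing R) L] [FiniteDimensional (FractionRing R) L],
    IsRegularRing (L ⊗[R] AdicCompletion (maximalIdeal (Localization.AtPrime r)) (Localization.AtPrime r))

theorem isRegularRing_completion (R : Type u) [CommRing R] [IsRegularRing R] (r : Ideal R) [r.IsPrime] :
    IsRegularRing (AdicCompletion (maximalIdeal (Localization.AtPrime r)) (Localization.AtPrime r)) := by
  haveI : IsNoetherianRing (Localization.AtPrime r) :=
    IsLocalization.isNoetherianRing r.primeCompl _ inferInstance
  haveI : IsRegularLocalRing (Localization.AtPrime r) := inferInstance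
  haveI := GrothLib.AdicExtra.isRegularLocalRing_adicCompletion_iff.1 ‹IsRegularLocalRing (Localization.AtPrime r)›
  exact GrothLib.Serre.isRegularRing_of_isRegularLocalRing _

theorem goodBase_charZero (R : Type u) [CommRing R] [IsDomain R] [IsRegularRing R] [CharZero R] : GoodBase R := by
  intro r _ L _ _ _ _ _
  haveI : CharZero (FractionRing R) :=
    charZero_of_injective_ringHom (IsFractionRing.injective R (FractionRing R))
  haveI := isRegularRing_completion R r
  exact isRegularRing_tensor_of_isSeparable R (FractionRing R) L _

theorem goodBase_powerSeries (p : ℕ) [hp : Fact p.Prime] (k : Type u) [Field k] [CharP k p] (d : ℕ) :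
    GoodBase (MvPowerSeries (Fin d) k) := by
  intro r _ L _ _ _ _ _
  haveI : IsRegularRing (MvPowerSeries (Fin d) k) := GrothLib.Serre.isRegularRing_of_isRegularLocalRing _
  haveI := isRegularRing_completion (MvPowerSeries (Fin d) k) r
  haveI : CharP (MvPowerSeries (Fin d) k) p :=
    charP_of_injective_ringHom (f := MvPowerSeries.C (σ := Fin d) (R := k)) (RingHom.injective _) p
  haveI : CharP (FractionRing (MvPowerSeries (Fin d) k)) p :=
    charP_of_injective_ringHom (IsFractionRing.injective (MvPowerSeries (Fin d) k) _) p
  refine isRegularRing_tensor_of_detects (K := FractionRing (MvPowerSeries (Fin d) k)) p ?_ r L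
  intro L' _ _ _ _ _ S hS a ha
  haveI := hS
  letI := (GrothLib.J2.toFracField (K := FractionRing (MvPowerSeries (Fin d) k)) S).toAlgebra
  haveI := GrothLib.J2.isFractionRing_fracField (K := FractionRing (MvPowerSeries (Fin d) k)) S
  haveI : IsScalarTower (MvPowerSeries (Fin d) k) S
      (GrothLib.J2.fracField (K := FractionRing (MvPowerSeries (Fin d) k)) S) :=
    IsScalarTower.of_algebraMap_eq fun r => Subtype.ext rfl
  have hinj : Function.Injective (algebraMap (MvPowerSeries (Fin d) k) L') := by
    rw [IsScalarTower.algebraMap_eq _ (FractionRing (MvPowerSeries (Fin d) k)) L']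
    exact (algebraMap (FractionRing (MvPowerSeries (Fin d) k)) L').injective.comp (IsFractionRing.injective _ _)
  exact GrothLib.J2.exists_derivation p d (k := k)
    (E := GrothLib.J2.fracField (K := FractionRing (MvPowerSeries (Fin d) k)) S)
    (fun x y h => hinj (congrArg Subtype.val h :)) a fun b hb => ha b b.2 (congrArg Subtype.val hb :)

/-- The fibres at the generic point of a finite domain over a good base. -/
theorem isRegularRing_tensor_of_goodBase {R B : Type u} [CommRing R] [IsDomain R] [IsNoetherianRing R]
    [CommRing B] [IsDomain B] [Algebra R B] [Module.Finite R B] [FaithfulSMul R B] (hR : GoodBase R)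
    (P : Ideal B) [P.IsPrime] (κ L : Type u) [Field κ] [Algebra B κ] [IsFractionRing B κ] [Field L]
    [Algebra κ L] [Algebra B L] [IsScalarTower B κ L] [Module.Finite κ L] :
    IsRegularRing (L ⊗[B] AdicCompletion (maximalIdeal (Localization.AtPrime P)) (Localization.AtPrime P)) := by
  let r := P.comap (algebraMap R B)
  let C := AdicCompletion (maximalIdeal (Localization.AtPrime r)) (Localization.AtPrime r)
  letI := FractionRing.liftAlgebra R (FractionRing B)
  haveI : FiniteDimensional (FractionRing R) (FractionRing B) := inferInstance
  let e := FractionRing.algEquiv B κ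
  let φ : FractionRing R →+* L :=
    (algebraMap κ L).comp (e.toRingEquiv.toRingHom.comp (algebraMap (FractionRing R) (FractionRing B)))
  letI : Algebra (FractionRing R) L := φ.toAlgebra
  letI : Algebra R L := ((algebraMap B L).comp (algebraMap R B)).toAlgebra
  haveI : IsScalarTower R B L := IsScalarTower.of_algebraMap_eq fun _ => rfl
  haveI : IsScalarTower R (FractionRing R) L := IsScalarTower.of_algebraMap_eq fun x => by
    show algebraMap B L (algebraMap R B x) =
      algebraMap κ L (e (algebraMap (FractionRing R) (FractionRing B) (algebraMap R (FractionRing R) x)))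
    rw [← IsScalarTower.algebraMap_apply R (FractionRing R) (FractionRing B),
      IsScalarTower.algebraMap_apply R B (FractionRing B), e.commutes, ← IsScalarTower.algebraMap_apply B κ L]
  have hφ : φ.Finite := RingHom.Finite.comp (RingHom.finite_algebraMap.2 ‹Module.Finite κ L›)
    (RingHom.Finite.comp (RingHom.Finite.of_surjective _ e.surjective)
      (RingHom.finite_algebraMap.2 ‹FiniteDimensional (FractionRing R) (FractionRing B)›))
  haveI : FiniteDimensional (FractionRing R) L := hφ
  haveI := hR r L
  obtain ⟨M, hM, ⟨eM⟩⟩ := exists_completion_model R B r P rfl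
  haveI : IsRegularRing (L ⊗[B] (B ⊗[R] C)) := IsRegularRing.of_ringEquiv (R := L ⊗[R] C)
    (Algebra.TensorProduct.cancelBaseChange R B L L C).symm.toRingEquiv
  haveI : IsRegularRing (L ⊗[B] Localization.AtPrime M) :=
    GrothLib.GeomReg.isRegularRing_tensor_localization (R := B) (S := B ⊗[R] C) (S' := Localization.AtPrime M) M.primeCompl L
  exact IsRegularRing.of_ringEquiv (R := L ⊗[B] Localization.AtPrime M)
    (Algebra.TensorProduct.congr (AlgEquiv.refl (R := B) (A₁ := L)) eM).toRingEquiv

theorem isRegularRing_tensor_completeDomain {B : Type u} [CommRing B] [IsDomain B] [IsLocalRing B]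
    [IsNoetherianRing B] [IsAdicComplete (maximalIdeal B) B] (P : Ideal B) [P.IsPrime] (κ L : Type u)
    [Field κ] [Algebra B κ] [IsFractionRing B κ] [Field L] [Algebra κ L] [Algebra B L] [IsScalarTower B κ L]
    [Module.Finite κ L] :
    IsRegularRing (L ⊗[B] AdicCompletion (maximalIdeal (Localization.AtPrime P)) (Localization.AtPrime P)) := by
  rcases complete_domain_cases B with ⟨p, hp, k, _, hk, d, φ, hfin, hinj⟩ | ⟨R, _, hR1, hR2, hR3, φ, hfin, hinj⟩
  · haveI := Fact.mk hp
    letI := φ.toAlgebra
    haveI : Module.Finite (MvPowerSeries (Fin d) k) B := hfin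
    haveI : FaithfulSMul (MvPowerSeries (Fin d) k) B := (faithfulSMul_iff_algebraMap_injective _ _).2 hinj
    exact isRegularRing_tensor_of_goodBase (goodBase_powerSeries p k d) P κ L
  · haveI := hR1
    haveI := hR2
    haveI := hR3
    haveI : IsRegularRing R := GrothLib.Serre.isRegularRing_of_isRegularLocalRing R
    letI := φ.toAlgebra
    haveI : Module.Finite R B := hfin
    haveI : FaithfulSMul R B := (faithfulSMul_iff_algebraMap_injective _ _).2 hinj
    exact isRegularRing_tensor_of_goodBase (goodBase_charZero R) P κ L

set_option maxHeartbeats 800000 in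
/-- The field fibres of the completions of the local rings of a complete local ring are regular. -/
theorem isRegularRing_fibre (A : Type u) [CommRing A] [IsLocalRing A] [IsNoetherianRing A]
    [IsAdicComplete (maximalIdeal A) A] (p q : Ideal A) [p.IsPrime] [q.IsPrime] (L : Type u) [Field L]
    [Algebra A L] [Algebra q.ResidueField L] [IsScalarTower A q.ResidueField L] [Module.Finite q.ResidueField L] :
    IsRegularRing (L ⊗[A] AdicCompletion (maximalIdeal (Localization.AtPrime p)) (Localization.AtPrime p)) := by
  let C := AdicCompletion (maximalIdeal (Localization.AtPrime p)) (Localization.AtPrime p)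
  by_cases hqp : q ≤ p
  · let B := A ⧸ q
    haveI : IsLocalRing B := IsLocalRing.of_surjective' (Ideal.Quotient.mk q) Ideal.Quotient.mk_surjective
    haveI : IsAdicComplete (maximalIdeal B) B := GrothLib.AdicExtra.isAdicComplete_localRing (R := A) (S := B)
    letI : Algebra B L := ((algebraMap q.ResidueField L).comp (algebraMap B q.ResidueField)).toAlgebra
    haveI : IsScalarTower B q.ResidueField L := IsScalarTower.of_algebraMap_eq fun _ => rfl
    haveI : IsScalarTower A B L := IsScalarTower.of_algebraMap_eq fun a => by
      show algebraMap A L a = algebraMap q.ResidueField L (algebraMap B q.ResidueField (algebraMap A B a))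
      rw [← IsScalarTower.algebraMap_apply A B q.ResidueField, ← IsScalarTower.algebraMap_apply]
    let P := p.map (Ideal.Quotient.mk q)
    haveI : P.IsPrime := Ideal.map_isPrime_of_surjective Ideal.Quotient.mk_surjective
      (by rw [Ideal.mk_ker]; exact hqp)
    have hP : P.comap (algebraMap A B) = p := by
      rw [Ideal.Quotient.algebraMap_eq, Ideal.comap_map_of_surjective' _ Ideal.Quotient.mk_surjective, Ideal.mk_ker]
      exact sup_eq_left.2 hqp
    obtain ⟨M, hM, ⟨eM⟩⟩ := exists_completion_model A B p P hP
    haveI : IsNoetherianRing (Localization.AtPrime p) :=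
      IsLocalization.isNoetherianRing p.primeCompl _ inferInstance
    have hsurj : Function.Surjective (Algebra.TensorProduct.includeRight : C →ₐ[A] B ⊗[A] C) :=
      TensorProduct.mk_surjective _ _ _ Ideal.Quotient.mk_surjective
    haveI : Nontrivial (B ⊗[A] C) := nontrivial_of_ne _ _ fun h : (0 : B ⊗[A] C) = 1 =>
      hM.ne_top (Ideal.eq_top_iff_one _ |>.2 (h ▸ M.zero_mem))
    haveI : IsLocalRing (B ⊗[A] C) := IsLocalRing.of_surjective' _ hsurj
    have hMu : M.primeCompl ≤ IsUnit.submonoid (B ⊗[A] C) := fun x hx => by
      by_contra h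
      have : x ∈ maximalIdeal (B ⊗[A] C) := (mem_maximalIdeal _).2 h
      rw [← IsLocalRing.eq_maximalIdeal hM] at this
      exact hx this
    let e0 := IsLocalization.atUnits (B ⊗[A] C) M.primeCompl (S := Localization.AtPrime M) hMu
    haveI := isRegularRing_tensor_completeDomain P q.ResidueField L
    haveI : IsRegularRing (L ⊗[B] (B ⊗[A] C)) := IsRegularRing.of_ringEquiv
      (R := L ⊗[B] AdicCompletion (maximalIdeal (Localization.AtPrime P)) (Localization.AtPrime P))
      (Algebra.TensorProduct.congr (AlgEquiv.refl (R := B) (A₁ := L))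
        ((e0.restrictScalars B).trans eM)).symm.toRingEquiv
    exact IsRegularRing.of_ringEquiv (R := L ⊗[B] (B ⊗[A] C))
      (Algebra.TensorProduct.cancelBaseChange A B L L C).toRingEquiv
  · obtain ⟨s, hsq, hsp⟩ := SetLike.not_le_iff_exists.1 hqp
    have hsub : Subsingleton (L ⊗[A] C) := by
      have h0 : algebraMap A L s = 0 := by
        rw [IsScalarTower.algebraMap_apply A q.ResidueField L,
          Ideal.algebraMap_residueField_eq_zero.2 hsq, map_zero]
      obtain ⟨z, hz⟩ := isUnit_iff_exists_inv.1
        (((IsLocalization.map_units (Localization.AtPrime p) (⟨s, hsp⟩ : p.primeCompl)).map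
          (algebraMap (Localization.AtPrime p) C)).map
          (Algebra.TensorProduct.includeRight : C →ₐ[A] L ⊗[A] C))
      rw [← IsScalarTower.algebraMap_apply, AlgHom.commutes,
        IsScalarTower.algebraMap_apply A L (L ⊗[A] C), h0, map_zero, zero_mul] at hz
      exact subsingleton_iff_zero_eq_one.1 hz
    rw [isRegularRing_iff]
    exact fun Q hQ => absurd (Ideal.eq_top_iff_one Q |>.2
      (by rw [Subsingleton.elim (1 : L ⊗[A] C) 0]; exact Q.zero_mem)) hQ.ne_top

/-- A complete local Noetherian ring is a G-ring. -/
theorem isGRing_of_isAdicComplete (A : Type u) [CommRing A] [IsLocalRing A] [IsNoetherianRing A]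
    [IsAdicComplete (maximalIdeal A) A] : CAlg.IsGRing A := by
  refine ⟨inferInstance, fun p _ => ?_⟩
  haveI : IsNoetherianRing (Localization.AtPrime p) :=
    IsLocalization.isNoetherianRing p.primeCompl _ inferInstance
  let C := AdicCompletion (maximalIdeal (Localization.AtPrime p)) (Localization.AtPrime p)
  refine (GrothLib.GeomReg.isRegularHom_localization_left (R := A) (R' := Localization.AtPrime p)
    p.primeCompl).mpr ⟨Module.Flat.trans A (Localization.AtPrime p) C, fun q _ => ⟨?_, fun L _ _ hL => ?_⟩⟩
  · haveI : IsNoetherianRing (C ⊗[A] q.ResidueField) := Algebra.EssFiniteType.isNoetherianRing C _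
    exact isNoetherianRing_of_ringEquiv _ (Algebra.TensorProduct.comm A C q.ResidueField).toRingEquiv
  · letI : Algebra A L := ((algebraMap q.ResidueField L).comp (algebraMap A q.ResidueField)).toAlgebra
    haveI : IsScalarTower A q.ResidueField L := IsScalarTower.of_algebraMap_eq fun _ => rfl
    haveI := hL
    haveI := isRegularRing_fibre A p q L
    exact IsRegularRing.of_ringEquiv (R := L ⊗[A] C)
      (Algebra.TensorProduct.cancelBaseChange A q.ResidueField L L C).symm.toRingEquiv

end GrothLib.GRingComplete
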