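import Groth.Agent.Lib.ComplAlg.Main
import Groth.Agent.Lib.AdicLim.Finite
import Groth.Agent.Lib.AdicExtra.Completion
import Mathlib.Algebra.TrivSqZeroExt.Basic
import Mathlib.RingTheory.AdicCompletion.RingHom
import Mathlib.RingTheory.AdicCompletion.LocalRing
import Mathlib.RingTheory.Derivation.Basic

/-!
# Derivations extend to completions
-/

set_option autoImplicit false
set_option linter.style.haveILetI false
universe u

open IsLocalRing TensorProduct

namespace GrothLib.GRingComplete

/-- Gluing ring maps on a tensor product. -/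
theorem exists_tensor_ringHom {R S C E : Type u} [CommRing R] [CommRing S] [CommRing C] [CommRing E]
    [Algebra R S] [Algebra R C] (f : S →+* E) (g : C →+* E)
    (h : ∀ r, f (algebraMap R S r) = g (algebraMap R C r)) :
    ∃ Ψ : S ⊗[R] C →+* E, ∀ s c, Ψ (s ⊗ₜ[R] c) = f s * g c := by
  letI : Algebra R E := (g.comp (algebraMap R C)).toAlgebra
  let f' : S →ₐ[R] E := { f with commutes' := h }
  let g' : C →ₐ[R] E := { g with commutes' := fun r => rfl }
  exact ⟨(Algebra.TensorProduct.lift f' g' fun _ _ => Commute.all _ _).toRingHom, fun s c => rfl⟩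

/-- A map to a square-zero extension of a complete algebra extends to the completion. -/
theorem exists_completion_lift {A T E : Type u} [CommRing A] [IsLocalRing A] [IsNoetherianRing A] [CommRing T]
    [Algebra (AdicCompletion (maximalIdeal A) A) T] [Module.Finite (AdicCompletion (maximalIdeal A) A) T]
    [CommRing E] [Algebra T E] [Module.Finite T E] (π : E →+* T) (hπ : ∀ t, π (algebraMap T E t) = t)
    (hsq : ∀ x y, π x = 0 → π y = 0 → x * y = 0) (φ : A →+* E)
    (hφ : ∀ a, π (φ a) = algebraMap (AdicCompletion (maximalIdeal A) A) T (algebraMap A _ a)) :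
    ∃ Φ : AdicCompletion (maximalIdeal A) A →+* E,
      (∀ a, Φ (algebraMap A _ a) = φ a) ∧ ∀ x, π (Φ x) = algebraMap _ T x := by
  classical
  let m := maximalIdeal A
  let C := AdicCompletion m A
  let J : Ideal T := (maximalIdeal C).map (algebraMap C T)
  haveI : IsNoetherianRing T := IsNoetherianRing.of_finite C T
  haveI : IsAdicComplete J T :=
    (IsAdicComplete.map_algebraMap_iff (maximalIdeal C) T).mpr (GrothLib.AdicLim.isAdicComplete_of_finite (maximalIdeal C) T)
  let I : Ideal E := J.map (algebraMap T E)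
  haveI : IsAdicComplete I E :=
    (IsAdicComplete.map_algebraMap_iff J E).mpr (GrothLib.AdicLim.isAdicComplete_of_finite J E)
  have hIJ : ∀ n, (J ^ n).map (algebraMap T E) = I ^ n := fun n => Ideal.map_pow _ _ _
  have hmJ : ∀ n, ∀ a ∈ m ^ n, π (φ a) ∈ J ^ n := fun n a ha => by
    rw [hφ, ← Ideal.map_pow]
    refine Ideal.mem_map_of_mem _ ?_
    rw [AdicCompletion.maximalIdeal_eq_map, ← Ideal.map_pow]
    exact Ideal.mem_map_of_mem _ ha
  have hpow : ∀ n, ∀ a ∈ m ^ (n + 1), φ a ∈ I ^ n := by
    intro n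
    induction n with
    | zero => intro a _; simp
    | succ n ih =>
      intro a ha
      rw [pow_succ] at ha
      refine Submodule.mul_induction_on ha (fun x hx y hy => ?_) (fun x y hx hy => ?_)
      · rw [map_mul]
        have hy1 := hmJ 1 y (by rwa [pow_one])
        rw [pow_one] at hy1
        have hd : ∀ z, π (φ z - algebraMap T E (π (φ z))) = 0 := fun z => by rw [map_sub, hπ, sub_self]
        have : φ x * φ y = φ x * algebraMap T E (π (φ y)) +
            algebraMap T E (π (φ x)) * (φ y - algebraMap T E (π (φ y))) := by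
          have h0 := hsq _ _ (hd x) (hd y)
          linear_combination h0
        rw [this]
        refine add_mem ?_ (Ideal.mul_mem_right _ _ ?_)
        · rw [pow_succ]
          exact Ideal.mul_mem_mul (ih x hx) (Ideal.mem_map_of_mem _ hy1)
        · rw [← hIJ]
          exact Ideal.mem_map_of_mem _ (hmJ (n + 1) x hx)
      · rw [map_add]; exact add_mem hx hy
  let f : (n : ℕ) → C →+* E ⧸ I ^ n := fun n =>
    (Ideal.Quotient.lift (m ^ (n + 1)) ((Ideal.Quotient.mk (I ^ n)).comp φ)
      (fun a ha => Ideal.Quotient.eq_zero_iff_mem.2 (hpow n a ha))).comp (AdicCompletion.evalₐ m (n + 1)).toRingHom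
  have hf0 : ∀ n x a, AdicCompletion.evalₐ m (n + 1) x = Ideal.Quotient.mk _ a → f n x = Ideal.Quotient.mk _ (φ a) := by
    intro n x a h
    exact congrArg (Ideal.Quotient.lift (m ^ (n + 1)) ((Ideal.Quotient.mk (I ^ n)).comp φ)
      (fun a ha => Ideal.Quotient.eq_zero_iff_mem.2 (hpow n a ha))) h
  have hf : ∀ {i j : ℕ} (hij : i ≤ j), (Ideal.Quotient.factorPow I hij).comp (f j) = f i := by
    intro i j hij
    ext x
    obtain ⟨a, ha⟩ := Ideal.Quotient.mk_surjective (AdicCompletion.evalₐ m (j + 1) x)
    rw [RingHom.comp_apply, hf0 j x a ha.symm]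
    refine (Eq.trans (hf0 i x a ?_) ?_).symm
    · obtain ⟨c, rfl⟩ := AdicCompletion.mk_surjective _ _ x
      rw [AdicCompletion.evalₐ_mk] at ha ⊢
      rw [Ideal.Quotient.eq] at ha ⊢
      have h2 : (c : ℕ → A) (i + 1) - (c : ℕ → A) (j + 1) ∈ m ^ (i + 1) := by
        have := c.2 (Nat.succ_le_succ hij)
        rwa [SModEq.sub_mem, smul_eq_mul, Ideal.mul_top] at this
      have := add_mem (neg_mem (Ideal.pow_le_pow_right (Nat.succ_le_succ hij) ha)) h2
      simpa [neg_sub, sub_add_sub_cancel, sub_add_sub_cancel'] using this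
    · rfl
  let Φ := IsAdicComplete.liftRingHom I f hf
  have hΦA : ∀ a, Φ (algebraMap A C a) = φ a := fun a => by
    refine sub_eq_zero.1 (IsHausdorff.haus (inferInstance : IsHausdorff I E) _ fun n => ?_)
    rw [SModEq.sub_mem, sub_zero, smul_eq_mul, Ideal.mul_top, ← Ideal.Quotient.eq, IsAdicComplete.mk_liftRingHom]
    refine hf0 n _ a ?_
    rw [AlgHom.commutes]
    rfl
  refine ⟨Φ, hΦA, fun x => ?_⟩
  refine sub_eq_zero.1 (IsHausdorff.haus (inferInstance : IsHausdorff J T) _ fun n => ?_)
  rw [SModEq.sub_mem, sub_zero, smul_eq_mul, Ideal.mul_top]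
  obtain ⟨a, ha⟩ := (GrothLib.ComplAlg.isFormalCompl_adicCompletion m).surj (n + 1) x
  have h1 : algebraMap C T x - algebraMap C T (algebraMap A C a) ∈ J ^ n := by
    rw [← map_sub, ← Ideal.map_pow]
    refine Ideal.mem_map_of_mem _ ?_
    rw [AdicCompletion.maximalIdeal_eq_map, ← Ideal.map_pow]
    exact Ideal.map_mono (Ideal.pow_le_pow_right (Nat.le_succ n)) ha
  have h2 : Φ (x - algebraMap A C a) ∈ I ^ n := by
    refine (Ideal.map_le_iff_le_comap.2 fun b hb => ?_ : (m ^ (n + 1)).map (algebraMap A C) ≤ (I ^ n).comap Φ) ha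
    show Φ (algebraMap A C b) ∈ I ^ n
    rw [hΦA]
    exact hpow n b hb
  rw [map_sub, hΦA] at h2
  have hle : I ^ n ≤ (J ^ n).comap π := by
    rw [← hIJ, Ideal.map_le_iff_le_comap]
    intro t ht
    show π (algebraMap T E t) ∈ J ^ n
    rwa [hπ]
  have h3 : π (Φ x - φ a) ∈ J ^ n := hle h2
  rw [map_sub, hφ] at h3
  have h4 := sub_mem h3 h1
  rwa [sub_sub_sub_cancel_right] at h4

/-- Derivations extend to pushouts along a completion. -/
theorem exists_derivation_of_pushout {R S : Type u} [CommRing R] [IsNoetherianRing R] [CommRing S] [Algebra R S]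
    (r : Ideal R) [r.IsPrime] (D : Derivation ℤ S S) {T : Type u} [CommRing T]
    [Algebra (AdicCompletion (maximalIdeal (Localization.AtPrime r)) (Localization.AtPrime r)) T]
    [Module.Finite (AdicCompletion (maximalIdeal (Localization.AtPrime r)) (Localization.AtPrime r)) T]
    (ι : S →+* T)
    (hι : ∀ x : R, ι (algebraMap R S x) =
      algebraMap (AdicCompletion (maximalIdeal (Localization.AtPrime r)) (Localization.AtPrime r)) T (algebraMap R _ x))
    (hlift : ∀ (E : Type u) [CommRing E] (f : S →+* E)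
      (g : AdicCompletion (maximalIdeal (Localization.AtPrime r)) (Localization.AtPrime r) →+* E),
      (∀ x, f (algebraMap R S x) = g (algebraMap R _ x)) →
        ∃ Ψ : T →+* E, (∀ s, Ψ (ι s) = f s) ∧ ∀ c, Ψ (algebraMap _ T c) = g c)
    (hext : ∀ F : T →+* T, (∀ s, F (ι s) = ι s) →
      (∀ c : AdicCompletion (maximalIdeal (Localization.AtPrime r)) (Localization.AtPrime r),
        F (algebraMap _ T c) = algebraMap _ T c) → ∀ t, F t = t) :
    ∃ Δ : Derivation ℤ T T, ∀ s, Δ (ι s) = ι (D s) := by
  let A := Localization.AtPrime r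
  let C := AdicCompletion (maximalIdeal A) A
  haveI : IsNoetherianRing A := IsLocalization.isNoetherianRing r.primeCompl _ inferInstance
  let E := TrivSqZeroExt T T
  let fS : S →+* E :=
    { toFun := fun s => ((ι s, ι (D s)) : E)
      map_one' := by
        apply TrivSqZeroExt.ext
        · exact map_one ι
        · show ι (D 1) = 0
          rw [Derivation.map_one_eq_zero, map_zero]
      map_mul' := fun x y => by
        apply TrivSqZeroExt.ext
        · exact map_mul ι x y
        · show ι (D (x * y)) = ι x • ι (D y) + MulOpposite.op (ι y) • ι (D x)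
          rw [Derivation.leibniz, map_add, smul_eq_mul, smul_eq_mul, map_mul, map_mul, op_smul_eq_smul,
            smul_eq_mul, smul_eq_mul]
      map_zero' := by
        apply TrivSqZeroExt.ext
        · exact map_zero ι
        · show ι (D 0) = 0
          rw [map_zero, map_zero]
      map_add' := fun x y => by
        apply TrivSqZeroExt.ext
        · exact map_add ι x y
        · show ι (D (x + y)) = ι (D x) + ι (D y)
          rw [map_add, map_add] }
  have hfS : ∀ s, (fS s).fst = ι s ∧ (fS s).snd = ι (D s) := fun s => ⟨rfl, rfl⟩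
  have hfst : ∀ x : R, (fS (algebraMap R S x)).fst = algebraMap C T (algebraMap R C x) := fun x => by
    rw [(hfS _).1]; exact hι x
  have hunit : ∀ y : r.primeCompl, IsUnit (fS.comp (algebraMap R S) y) := fun y => by
    rw [TrivSqZeroExt.isUnit_iff_isUnit_fst, RingHom.comp_apply, hfst, IsScalarTower.algebraMap_apply R A C]
    exact ((IsLocalization.map_units A y).map (algebraMap A C)).map _
  let φ : A →+* E := IsLocalization.lift (M := r.primeCompl) hunit
  have hφ : ∀ a, (φ a).fst = algebraMap C T (algebraMap A C a) := fun a => by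
    have : (TrivSqZeroExt.fstHom T T T).toRingHom.comp φ = (algebraMap C T).comp (algebraMap A C) := by
      refine IsLocalization.ringHom_ext r.primeCompl (RingHom.ext fun x => ?_)
      show (φ (algebraMap R A x)).fst = algebraMap C T (algebraMap A C (algebraMap R A x))
      rw [IsLocalization.lift_eq, RingHom.comp_apply, hfst, ← IsScalarTower.algebraMap_apply R A C]
    exact RingHom.congr_fun this a
  haveI : Module.Finite T E := inferInstanceAs (Module.Finite T (T × T))
  obtain ⟨Φ, hΦA, hΦfst⟩ := exists_completion_lift (A := A) (T := T) (E := E) (TrivSqZeroExt.fstHom T T T).toRingHom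
    (fun t => by simp [TrivSqZeroExt.algebraMap_eq_inl])
    (fun x y hx hy => by
      have hx' : x.fst = 0 := hx
      have hy' : y.fst = 0 := hy
      apply TrivSqZeroExt.ext
      · show x.fst * y.fst = 0
        rw [hx', zero_mul]
      · show x.fst • y.snd + MulOpposite.op y.fst • x.snd = 0
        rw [hx', hy', zero_smul, MulOpposite.op_zero, zero_smul, add_zero]) φ hφ
  obtain ⟨Ψ, hΨS, hΨC⟩ := hlift E fS Φ fun x => by
    rw [IsScalarTower.algebraMap_apply R A C, hΦA, IsLocalization.lift_eq]
    rfl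
  have hfstΨ : ∀ t, (Ψ t).fst = t := hext ((TrivSqZeroExt.fstHom T T T).toRingHom.comp Ψ)
    (fun s => by show (Ψ (ι s)).fst = ι s; rw [hΨS, (hfS s).1])
    (fun c => by
      show (Ψ (algebraMap C T c)).fst = algebraMap C T c
      rw [hΨC]
      exact hΦfst c)
  let Δ0 : T →+ T := AddMonoidHom.mk' (fun t => (Ψ t).snd) fun x y => by rw [map_add, TrivSqZeroExt.snd_add]
  refine ⟨Derivation.mk' Δ0.toIntLinearMap fun x y => ?_, fun s => ?_⟩
  · show (Ψ (x * y)).snd = x • (Ψ y).snd + y • (Ψ x).snd
    rw [map_mul, TrivSqZeroExt.snd_mul, hfstΨ, hfstΨ, op_smul_eq_smul]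
  · show (Ψ (ι s)).snd = _
    rw [hΨS, (hfS s).2]

/-- A derivation of a finite algebra extends to the completion at a prime of the base. -/
theorem exists_derivation_lift {R S : Type u} [CommRing R] [IsNoetherianRing R] [CommRing S] [Algebra R S]
    [Module.Finite R S] (r : Ideal R) [r.IsPrime] (D : Derivation ℤ S S) :
    ∃ Δ : Derivation ℤ (S ⊗[R] AdicCompletion (maximalIdeal (Localization.AtPrime r)) (Localization.AtPrime r))
        (S ⊗[R] AdicCompletion (maximalIdeal (Localization.AtPrime r)) (Localization.AtPrime r)),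
      ∀ s, Δ (s ⊗ₜ 1) = D s ⊗ₜ 1 := by
  let C := AdicCompletion (maximalIdeal (Localization.AtPrime r)) (Localization.AtPrime r)
  letI : Algebra C (S ⊗[R] C) := Algebra.TensorProduct.rightAlgebra
  haveI : Module.Finite C (S ⊗[R] C) :=
    Module.Finite.equiv ({ Algebra.TensorProduct.comm R C S with
      commutes' := fun c => rfl } : (C ⊗[R] S) ≃ₐ[C] S ⊗[R] C).toLinearEquiv
  refine exists_derivation_of_pushout r D (T := S ⊗[R] C) Algebra.TensorProduct.includeLeftRingHom ?_ ?_ ?_
  · intro x
    show algebraMap R S x ⊗ₜ[R] (1 : C) = (1 : S) ⊗ₜ[R] algebraMap R C x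
    rw [Algebra.algebraMap_eq_smul_one, TensorProduct.smul_tmul, ← Algebra.algebraMap_eq_smul_one]
  · intro E _ f g h
    obtain ⟨Ψ, hΨ⟩ := exists_tensor_ringHom (R := R) f g h
    refine ⟨Ψ, fun s => ?_, fun c => ?_⟩
    · show Ψ (s ⊗ₜ[R] (1 : C)) = f s
      rw [hΨ, map_one, mul_one]
    · show Ψ ((1 : S) ⊗ₜ[R] c) = g c
      rw [hΨ, map_one, one_mul]
  · intro F hs hc t
    induction t using TensorProduct.induction_on with
    | zero => simp
    | add x y hx hy => rw [map_add, hx, hy]
    | tmul s c =>
      have e : s ⊗ₜ[R] c = (s ⊗ₜ[R] (1 : C)) * ((1 : S) ⊗ₜ[R] c) := by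
        rw [Algebra.TensorProduct.tmul_mul_tmul, mul_one, one_mul]
      rw [e, map_mul]
      exact congr_arg₂ (· * ·) (hs s) (hc c)

end GrothLib.GRingComplete
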